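import Groth.Agent.KFlatLib.PushTensor
import Groth.Agent.ExtTwistLib.Basic
import Groth.Agent.ProjFormLib.Proj
import Groth.Agent.AmpleDevLib.Pull
import Groth.Agent.PnCohLib.MultPow
import Groth.Agent.PnCohLib.Serre

/-!
# Surjectivity of multiplication of global sections, and direct images
-/

set_option autoImplicit false
set_option linter.style.haveILetI false
set_option linter.unusedSectionVars false
set_option backward.isDefEq.respectTransparency false
set_option backward.isDefEq.respectTransparency.types false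
set_option maxHeartbeats 1000000

universe u

open CategoryTheory CategoryTheory.Limits AlgebraicGeometry TopologicalSpace Opposite MonoidalCategory
open AmpleLib (shT GenOn GenAt res)
open KFlatLib (pb pf puSec shApp tm PM pT tens)

noncomputable section

namespace MultSecLib

variable {X Y : Scheme.{u}}

theorem shApp_zero (M N : X.Modules) (U : X.Opens) : shApp M N U 0 = 0 :=
  map_zero (((PresheafOfModules.sheafificationAdjunction.{u} (R := X.ringCatSheaf)
    (𝟙 X.ringCatSheaf.obj)).unit.app (pT M N : X.PresheafOfModules)).app (op U)).hom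

/-- Every global section of the tensor product is a sum of products. -/
def Mult (A B : X.Modules) : Prop := Function.Surjective (shApp A B ⊤)

theorem mult_iff (A B : X.Modules) :
    Mult A B ↔ Function.Surjective ((toSheafify (Opens.grothendieckTopology X) (CohB1.tensorPre A B).presheaf).app (op ⊤)) :=
  ⟨fun h w => h w, fun h w => h w⟩

theorem mult_iso {A A' B B' : X.Modules} (a : A ≅ A') (b : B ≅ B') (h : Mult A B) : Mult A' B' := by
  let t : pT A B ⟶ pT A' B' := DCoh.toP.map a.hom ⊗ₘ DCoh.toP.map b.hom
  let F : tens A B ⟶ tens A' B' := DCoh.shP.map t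
  haveI : IsIso t := inferInstanceAs (IsIso (DCoh.toP.map a.hom ⊗ₘ DCoh.toP.map b.hom))
  haveI : IsIso F := inferInstanceAs (IsIso (DCoh.shP.map t))
  intro w
  obtain ⟨v, rfl⟩ := ((ConcreteCategory.isIso_iff_bijective (F.app ⊤)).1 inferInstance).2 w
  obtain ⟨s, rfl⟩ := h v
  exact ⟨_, (KFlatLib.shApp_map t ⊤ s).symm⟩

variable (f : X ⟶ Y) (A : X.Modules) (B : Y.Modules)

/-- The projection map. -/
def proj : tens (pf f A) B ⟶ pf f (tens A (pb f B)) :=
  (show tens (pf f A) B ⟶ tens (pf f A) (pf f (pb f B)) from
    ((DCoh.tensorBi (X := Y)).obj (pf f A)).map ((Scheme.Modules.pullbackPushforwardAdjunction f).unit.app B)) ≫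
      KFlatLib.pushμ f A (pb f B)

theorem proj_shT {V : Y.Opens} (a : Γ(pf f A, V)) (b : Γ(B, V)) :
    (proj f A B).app V (shT a b) = shT (M := A) (N := pb f B) (W := f ⁻¹ᵁ V) a (puSec f b) := by
  rw [proj, Scheme.Modules.Hom.comp_app]
  have h : (show tens (pf f A) B ⟶ tens (pf f A) (pf f (pb f B)) from
    ((DCoh.tensorBi (X := Y)).obj (pf f A)).map ((Scheme.Modules.pullbackPushforwardAdjunction f).unit.app B)).app V
      (shT a b) = shT (M := pf f A) (N := pf f (pb f B)) (W := V) a (puSec f b) :=
    KFlatLib.shApp_map (M := pf f A) (N := B)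
      (DCoh.toP.obj (pf f A) ◁ DCoh.toP.map ((Scheme.Modules.pullbackPushforwardAdjunction f).unit.app B)) V _
  exact (congrArg ((KFlatLib.pushμ f A (pb f B)).app V) h).trans
    (KFlatLib.pushμ_shApp f A (pb f B) V a (puSec f b))

/-- The projection formula for an invertible module. -/
theorem isIso_proj (hB : PicF.IsInvertible B) : IsIso (proj f A B) := by
  refine ProjFormLib.isIso_of_sections _ fun y => ?_
  obtain ⟨U, e, hyU, he⟩ := TwistLib.exists_genOn hB y
  refine ⟨U, hyU, fun V hV => ?_⟩
  have h1 := ExtTwistLib.shT_right_bijective (M := pf f A) (he.res hV)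
  have hg : GenOn (pb f B) (W := f ⁻¹ᵁ V) (puSec f (res B hV e)) := by
    rw [TwistLib.puSec_res f hV e]
    exact (AmpleDevLib.puSec_genOn f he).res (f.preimage_mono hV)
  have h2 := ExtTwistLib.shT_right_bijective (M := A) hg
  refine (Function.Bijective.of_comp_iff _ h1).1 ?_
  exact (congrArg Function.Bijective (funext fun a => proj_shT f A B a _)).mpr h2

/-- Multiplication upstairs from multiplication downstairs. -/
theorem mult_of_push (hB : PicF.IsInvertible B) (h : Mult (pf f A) B) : Mult A (pb f B) := by
  haveI := isIso_proj f A B hB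
  intro w
  obtain ⟨z, hz⟩ := ((ConcreteCategory.isIso_iff_bijective ((proj f A B).app ⊤)).1 inferInstance).2
    (show Γ(pf f (tens A (pb f B)), ⊤) from w)
  obtain ⟨s, rfl⟩ := h z
  subst hz
  induction s using TensorProduct.induction_on with
  | zero =>
    exact ⟨0, (shApp_zero A (pb f B) ⊤).trans
      ((congrArg _ (shApp_zero (pf f A) B ⊤)).trans (map_zero _)).symm⟩
  | tmul a b => exact ⟨_, (proj_shT f A B (V := ⊤) a b).symm⟩
  | add s t hs ht =>
    obtain ⟨s', hs'⟩ := hs
    obtain ⟨t', ht'⟩ := ht
    refine ⟨s' + t', (KFlatLib.shApp_add A (pb f B) ⊤ s' t').trans ?_⟩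
    exact ((congrArg _ (KFlatLib.shApp_add (pf f A) B ⊤ s t)).trans (map_add _ _ _)).trans
      (congr_arg₂ (· + ·) hs'.symm ht'.symm) |>.symm

/-- On projective space, multiplication is surjective in the regular range. -/
theorem mult_projSpace {k : Type u} [Field k] {n : ℕ} (G : (CohB1.ProjSpace n k).Modules) (hG : Coh.IsCoh G)
    {m : ℤ} (h : Curv2.IsMRegular k n G m) (e : ℕ) :
    Mult (CohB1.tensorMod G (Twist.twistProjSpace n k m)) (Twist.twistProjSpace n k (e : ℤ)) := fun w =>
  PnCohLib.surjective_mult_pow k e G hG.1 m h w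

end MultSecLib
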