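import Groth.Agent.MultSecLib.Basic
import Groth.Agent.GrowthLib.GlobGen
import Groth.Agent.GrowthLib.Pullback
import Groth.Agent.FormalCohLib.Counit

/-!
# Multiplication of sections of high powers of a globally generated invertible module
-/

set_option autoImplicit false
set_option linter.style.haveILetI false
set_option linter.unusedSectionVars false
set_option backward.isDefEq.respectTransparency false
set_option backward.isDefEq.respectTransparency.types false
set_option maxHeartbeats 1000000

universe u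

open CategoryTheory CategoryTheory.Limits AlgebraicGeometry TopologicalSpace Opposite
open KFlatLib (pb pf)

noncomputable section

namespace MultSecLib

variable (k : Type u) [Field k] {X : Scheme.{u}} [X.Over (Spec (CommRingCat.of k))]
  [IsProper (X ↘ Spec (CommRingCat.of k))]

include k in
/-- High powers of a globally generated invertible module multiply surjectively. -/
theorem exists_mult_of_gg {L : X.Modules} (hL : PicF.IsInvertible L) (hgen : Curv2.IsGloballyGenerated L)
    {F : X.Modules} (hF : Coh.IsCoh F) :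
    ∃ m₀ : ℕ, 0 < m₀ ∧ ∀ a b : ℕ, m₀ ≤ a →
      Mult (CohB1.tensorMod F (CohB1.tensorPow L a)) (CohB1.tensorPow L b) := by
  obtain ⟨n, φ, hφ, ⟨e⟩⟩ := GrowthLib.exists_toProjSpace k hL hgen
  haveI : IsProper (CohB1.ProjSpace n k ↘ Spec (CommRingCat.of k)) := FormalCohLib.isProper_projToSpec n k
  haveI : IsProper φ := GrowthLib.isProper_of_over φ hφ
  haveI : IsLocallyNoetherian (CohB1.ProjSpace n k) :=
    LocallyOfFiniteType.isLocallyNoetherian (CohB1.ProjSpace n k ↘ Spec (CommRingCat.of k))
  have hG : Coh.IsCoh (pf φ F) := FormalCohLib.isCoh_push_proper φ hF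
  obtain ⟨d₀, hd₀⟩ := PnCohLib.exists_regular k (pf φ F) hG
  refine ⟨d₀.toNat + 1, Nat.succ_pos _, fun a b ha => ?_⟩
  have hT : ∀ c : ℕ, Nonempty (pb φ (Twist.twistProjSpace n k (c : ℤ)) ≅ CohB1.tensorPow L c) := fun c => by
    obtain ⟨e₁⟩ := PnCohLib.tensorPow_twist (n := n) (R := k) c
    obtain ⟨e₂, -⟩ := AmpleDevLib.exists_pullPowIso φ (PicPnLib.twist_inv n k 1) c
    obtain ⟨e₃⟩ := GrowthLib.nonempty_tensorPow_congr e c
    exact ⟨(Scheme.Modules.pullback φ).mapIso e₁.symm ≪≫ e₂ ≪≫ e₃⟩
  obtain ⟨ea⟩ := hT a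
  obtain ⟨eb⟩ := hT b
  haveI := isIso_proj φ F _ (PicPnLib.twist_inv n k (a : ℤ))
  have h := mult_projSpace (pf φ F) hG (hd₀ (a : ℤ) (by omega)) b
  have h1 := mult_iso (asIso (proj φ F (Twist.twistProjSpace n k (a : ℤ)))) (Iso.refl _) h
  exact mult_iso (HilbPolyLib.congrRight F ea) eb
    (mult_of_push φ _ _ (PicPnLib.twist_inv n k (b : ℤ)) h1)

end MultSecLib
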